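import Cfsg.Agent.Omega.NO3S.SN.TwoP.Count
import Cfsg.Agent.Omega.NO3S.SN.TwoP.NoOver
import Cfsg.Agent.Omega.NO3S.SN.TwoP.FiveOut

/-!
# LightL, `n = 5`: TWO PAIRS (helper586 #20800), the abstract core (helper411 #25060 (A), helper604 #25153 (J1))

* `Dat` : the data.  `R` is a minimal parabolic over `T`, `V ≤ U` elementary abelian, `U` is invariant under `R` and `a`,
  `[w₁, T] ≤ ⟨x⟩`, `[w₂, T] ≤ ⟨y⟩`, `R` centralises `x`, `y`, `A ≤ T` centralises `V` and commutes with `a`, ...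
* `Dat.false`.
-/

set_option autoImplicit false
set_option linter.unusedSectionVars false

namespace Cfsg.Agent.Omega.NO3S.TwoJ

open Subgroup Cfsg Cfsg.Agent.ZN Cfsg.Agent.ZN.ChoiceBase
open Cfsg.Agent.ZN.ChoiceSit
open Cfsg.Agent.Omega.SQ1.Bau (mem_sup_comm card_sup_comm)
open Cfsg.Agent.MinSimple.MinParabolic (IsMinPar)
open Cfsg.Agent.MinSimple.VModule (oddGen oddGen_le mem_oddGen le_normalizer_oddGen)
open Cfsg.Agent.Omega.NO3S.SN.TwoP (Mod Mod_le Mod_conj D_le_Mod conj_mem_Mod mem_Mod comm_prod comm_iff count2 split2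
  noOver qf qf_mul qf_eq_zero)

universe u

variable {G : Type u} [Group G]

/-- `⟨V^R⟩` -/
def UR (R V : Subgroup G) : Subgroup G := closure {g | ∃ r ∈ R, ∃ v ∈ V, g = r * v * r⁻¹}

/-- The data of the count. -/
structure Dat [Finite G] (T R U V D A : Subgroup G) (a x y w₁ w₂ : G) : Prop where
  syl : Syl T R
  min : IsMinPar T R
  Uab : ∀ u ∈ U, ∀ v ∈ U, u * v = v * u
  Usq : ∀ u ∈ U, u * u = 1
  RU : ∀ r ∈ R, ∀ u ∈ U, r * u * r⁻¹ ∈ U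
  aU : ∀ u ∈ U, a * u * a⁻¹ ∈ U
  VU : V ≤ U
  DV : D ≤ V
  xD : x ∈ D
  yD : y ∈ D
  Dm : ∀ d ∈ D, d = 1 ∨ d = x ∨ d = y ∨ d = x * y
  RD : ∀ r ∈ R, ∀ d ∈ D, r * d = d * r
  w1 : w₁ ∈ V
  w2 : w₂ ∈ V
  x1 : x ≠ 1
  y1 : y ≠ 1
  xy : x ≠ y
  tw1 : ∀ t ∈ T, t * w₁ * t⁻¹ * w₁⁻¹ = 1 ∨ t * w₁ * t⁻¹ * w₁⁻¹ = x
  tw2 : ∀ t ∈ T, t * w₂ * t⁻¹ * w₂⁻¹ = 1 ∨ t * w₂ * t⁻¹ * w₂⁻¹ = y
  TV : ∀ t ∈ T, ∀ v ∈ V, t * v * t⁻¹ * v⁻¹ ∈ D
  AT : A ≤ T
  AV : ∀ b ∈ A, ∀ v ∈ V, b * v = v * b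
  Aab : ∀ b ∈ A, ∀ c ∈ A, b * c = c * b
  Asq : ∀ b ∈ A, b * b = 1
  aA : ∀ b ∈ A, a * b = b * a
  /-- `a` normalises `C_T(V)` -/
  aQ : ∀ q ∈ T, (∀ v ∈ V, q * v = v * q) →
    a * q * a⁻¹ ∈ T ∧ ∀ v ∈ V, (a * q * a⁻¹) * v = v * (a * q * a⁻¹)
  ax : a * x * a⁻¹ ∉ D
  ay : a * y * a⁻¹ ∉ D
  axy : a * (x * y) * a⁻¹ = x * y
  axw : ∃ d ∈ D, a * x * a⁻¹ = w₁ * w₂ * d
  /-- (1') -/
  one : ∀ M : Subgroup G, M ≤ UR R V → (∀ m ∈ M, ∀ k ∈ o2 R, k * m = m * k) → (∀ r ∈ R, ∀ m ∈ M, r * m * r⁻¹ ∈ M) →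
    ∀ r ∈ oddGen R, ∀ m ∈ M, r * m = m * r
  mv1 : ∃ r ∈ oddGen R, r * w₁ ≠ w₁ * r
  mv2 : ∃ r ∈ oddGen R, r * w₂ ≠ w₂ * r
  /-- `A V` is an elementary abelian subgroup of maximal order -/
  cnt : ∀ X : Subgroup G, V ≤ X → X ≤ U →
    Nat.card X * Nat.card ↥(A ⊓ centralizer (X : Set G)) ≤ Nat.card A * Nat.card ↥(X ⊓ centralizer (A : Set G))
  act : ∀ u ∈ U, (∀ b ∈ A, b * u = u * b) → ∃ v ∈ V, a * u * a⁻¹ = u * v

/-- `⟨M^R⟩ = M` and the powers of an element of odd order -/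
theorem comm_of_odd {r w i : G} (ho : Odd (orderOf r)) (hi : i * i = 1) (hc : r * i = i * r)
    (h : r * w * r⁻¹ = w * i) : r * w = w * r := by
  have h1 : ∀ n : ℕ, r ^ n * w * (r ^ n)⁻¹ = w * i ^ n := by
    intro n
    induction n with
    | zero => simp
    | succ n ih =>
      have e1 : r ^ (n + 1) * w * (r ^ (n + 1))⁻¹ = r * (r ^ n * w * (r ^ n)⁻¹) * r⁻¹ := by
        rw [pow_succ']; group
      have hcn : r * i ^ n * r⁻¹ = i ^ n := by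
        have h2 : Commute r i := hc
        have h3 : Commute r (i ^ n) := h2.pow_right n
        rw [h3.eq, mul_inv_cancel_right]
      rw [e1, ih]
      calc r * (w * i ^ n) * r⁻¹ = (r * w * r⁻¹) * (r * i ^ n * r⁻¹) := by group
        _ = w * i * i ^ n := by rw [h, hcn]
        _ = w * i ^ (n + 1) := by rw [mul_assoc, pow_succ']
  have h2 := h1 (orderOf r)
  rw [pow_orderOf_eq_one] at h2
  obtain ⟨k, hk⟩ := ho
  have h3 : i ^ orderOf r = i := by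
    rw [hk, pow_succ, pow_mul, pow_two, hi, one_pow, one_mul]
  rw [h3] at h2
  have h4 : i = 1 := by
    have : w = w * i := by simpa using h2
    exact left_eq_mul.1 this
  rw [h4, mul_one] at h
  exact mul_inv_eq_iff_eq_mul.1 h

variable [Finite G]

namespace Dat

variable {T R U V D A : Subgroup G} {a x y w₁ w₂ : G} (f : Dat T R U V D A a x y w₁ w₂)
include f

theorem TR : T ≤ R := f.syl.1

theorem T2 : IsPGroup 2 T := f.syl.2.1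

theorem OT : o2 R ≤ T := ChoiceSit.o2_le_syl f.syl

theorem OR : o2 R ≤ R := f.OT.trans f.TR

theorem DU : D ≤ U := f.DV.trans f.VU

theorem xx : x * x = 1 := f.Usq x (f.DU f.xD)

theorem yy : y * y = 1 := f.Usq y (f.DU f.yD)

theorem xyc : x * y = y * x := f.Uab x (f.DU f.xD) y (f.DU f.yD)

theorem conj_D {r d : G} (hr : r ∈ R) (hd : d ∈ D) : r * d * r⁻¹ = d := by
  rw [f.RD r hr d hd, mul_inv_cancel_right]

theorem Mod_norm {w r e : G} (hr : r ∈ R) (he : e ∈ Mod D R w) : r * e * r⁻¹ ∈ Mod D R w :=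
  Mod_conj (fun _ hr _ hd => by rw [f.conj_D hr hd]; exact hd) hr he

theorem Mod_U {w : G} (hw : w ∈ U) : Mod D R w ≤ U :=
  Mod_le f.DU fun r hr => f.RU r hr w hw

theorem UR_U : UR R V ≤ U := by
  rw [UR, closure_le]
  rintro _ ⟨r, hr, v, hv, rfl⟩
  exact f.RU r hr v (f.VU hv)

theorem Mod_UR {w : G} (hw : w ∈ V) : Mod D R w ≤ UR R V :=
  Mod_le (fun d hd => subset_closure ⟨1, R.one_mem, d, f.DV hd, by group⟩) fun r hr =>
    subset_closure ⟨r, hr, w, hw, rfl⟩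

theorem O_norm {r b : G} (hr : r ∈ R) (hb : b ∈ o2 R) : r⁻¹ * b * r⁻¹⁻¹ ∈ o2 R :=
  (mem_normalizer_iff.1 (MinSimple.VModule.le_normalizer_o2 R (inv_mem hr)) b).1 hb

/-- the commutators with `O₂(R)` -/
theorem comm_Mod {w x' : G} (hw : w ∈ U) (hx : x' ∈ D)
    (hc : ∀ t ∈ T, t * w * t⁻¹ * w⁻¹ = 1 ∨ t * w * t⁻¹ * w⁻¹ = x')
    {b e : G} (hb : b ∈ o2 R) (he : e ∈ Mod D R w) : b * e * b⁻¹ * e⁻¹ = 1 ∨ b * e * b⁻¹ * e⁻¹ = x' := by
  have hxx : x' * x' = 1 := f.Usq x' (f.DU hx)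
  let K : Subgroup G :=
    { carrier := {e | e ∈ U ∧ ∀ b ∈ o2 R, b * e * b⁻¹ * e⁻¹ = 1 ∨ b * e * b⁻¹ * e⁻¹ = x'}
      one_mem' := ⟨one_mem _, fun b _ => Or.inl (by group)⟩
      mul_mem' := by
        rintro e e' ⟨he, h2⟩ ⟨he', h3⟩
        refine ⟨mul_mem he he', fun b hb => ?_⟩
        have h4 : b * e' * b⁻¹ * e'⁻¹ ∈ U :=
          mul_mem (f.RU b (f.OR hb) e' he') (inv_mem he')
        have h5 : b * (e * e') * b⁻¹ * (e * e')⁻¹ = (b * e * b⁻¹ * e⁻¹) * (b * e' * b⁻¹ * e'⁻¹) :=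
          comm_prod (f.Uab e he _ h4)
        rw [h5]
        rcases h2 b hb with h6 | h6 <;> rcases h3 b hb with h7 | h7 <;> rw [h6, h7]
        · left; rw [one_mul]
        · right; rw [one_mul]
        · right; rw [mul_one]
        · left; exact hxx
      inv_mem' := by
        rintro e ⟨he, h2⟩
        refine ⟨inv_mem he, fun b hb => ?_⟩
        have hei : e⁻¹ = e := inv_eq_of_mul_eq_one_left (f.Usq e he)
        rw [hei]
        exact h2 b hb }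
  have h1 : Mod D R w ≤ K := by
    refine Mod_le (fun d hd => ⟨f.DU hd, fun b hb => Or.inl ?_⟩) fun r hr => ?_
    · rw [f.conj_D (f.OR hb) hd, mul_inv_cancel]
    · refine ⟨f.RU r hr w hw, fun b hb => ?_⟩
      have hb' := f.O_norm hr hb
      have e1 : b * (r * w * r⁻¹) * b⁻¹ * (r * w * r⁻¹)⁻¹ =
          r * ((r⁻¹ * b * r⁻¹⁻¹) * w * (r⁻¹ * b * r⁻¹⁻¹)⁻¹ * w⁻¹) * r⁻¹ := by group
      rw [e1]
      rcases hc _ (f.OT hb') with h2 | h2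
      · left; rw [h2]; group
      · right; rw [h2, f.conj_D hr hx]
  exact (h1 he).2 b hb

/-- the kernel of `R` on `M / I` -/
theorem mem_O' {M I : Subgroup G} (hM : ∀ r ∈ R, ∀ e ∈ M, r * e * r⁻¹ ∈ M) (hI : ∀ r ∈ R, ∀ e ∈ I, r * e * r⁻¹ ∈ I)
    {w : G} (hw : w ∈ M) (hwT : ∀ t ∈ T, t * w * t⁻¹ * w⁻¹ ∈ I) (hwR : ∃ r ∈ R, r * w * r⁻¹ * w⁻¹ ∉ I) {b : G}
    (hb : b ∈ T) (hc : ∀ e ∈ M, b * e * b⁻¹ * e⁻¹ ∈ I) : b ∈ o2 R := by
  have hfact : Fact (Nat.Prime 2) := ⟨Nat.prime_two⟩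
  let N : Subgroup G :=
    { carrier := {r | r ∈ R ∧ ∀ e ∈ M, r * e * r⁻¹ * e⁻¹ ∈ I}
      one_mem' := ⟨one_mem _, fun e _ => by
        have : (1 : G) * e * 1⁻¹ * e⁻¹ = 1 := by group
        rw [this]; exact one_mem _⟩
      mul_mem' := by
        rintro r s ⟨hr, h2⟩ ⟨hs, h3⟩
        refine ⟨mul_mem hr hs, fun e he => ?_⟩
        have h4 : (r * s) * e * (r * s)⁻¹ * e⁻¹ = r * (s * e * s⁻¹ * e⁻¹) * r⁻¹ * (r * e * r⁻¹ * e⁻¹) := by group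
        rw [h4]
        exact mul_mem (hI r hr _ (h3 e he)) (h2 e he)
      inv_mem' := by
        rintro r ⟨hr, h2⟩
        refine ⟨inv_mem hr, fun e he => ?_⟩
        have h3 : r⁻¹ * e * r⁻¹⁻¹ ∈ M := hM _ (inv_mem hr) e he
        have h4 := h2 _ h3
        have h5 : r * (r⁻¹ * e * r⁻¹⁻¹) * r⁻¹ * (r⁻¹ * e * r⁻¹⁻¹)⁻¹ = (r⁻¹ * e * r⁻¹⁻¹ * e⁻¹)⁻¹ := by group
        rw [h5] at h4
        have := inv_mem h4
        rwa [inv_inv] at this }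
  have hNR : N ≤ R := fun r hr => hr.1
  have hNn : R ≤ normalizer (N : Set G) := by
    intro r hr
    refine mem_normalizer_of_cj_le ?_
    rintro _ ⟨s, hs, rfl⟩
    change r * s * r⁻¹ ∈ N
    refine ⟨R.mul_mem (R.mul_mem hr hs.1) (R.inv_mem hr), fun e he => ?_⟩
    have h3 : r⁻¹ * e * r⁻¹⁻¹ ∈ M := hM _ (inv_mem hr) e he
    have h4 := hs.2 _ h3
    have h5 : r * s * r⁻¹ * e * (r * s * r⁻¹)⁻¹ * e⁻¹ =
        r * (s * (r⁻¹ * e * r⁻¹⁻¹) * s⁻¹ * (r⁻¹ * e * r⁻¹⁻¹)⁻¹) * r⁻¹ := by group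
    rw [h5]
    exact hI r hr _ h4
  refine ((f.min.sup_eq_or_inf_le f.T2 (syl_not_dvd f.syl) hNR hNn).resolve_left fun h0 => ?_) ⟨hb, f.TR hb, hc⟩
  obtain ⟨r, hr, hrw⟩ := hwR
  apply hrw
  have hTN : T ≤ normalizer (N : Set G) := f.TR.trans hNn
  rw [← h0, sup_comm] at hr
  obtain ⟨t, ht, n, hn, rfl⟩ : ∃ t ∈ T, ∃ n ∈ N, r = t * n := SQ1.Bau.mem_sup_norm hTN hr
  have e1 : (t * n) * w * (t * n)⁻¹ * w⁻¹ = t * (n * w * n⁻¹ * w⁻¹) * t⁻¹ * (t * w * t⁻¹ * w⁻¹) := by group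
  rw [e1]
  exact mul_mem (hI t (f.TR ht) _ (hn.2 w hw)) (hwT t ht)

/-- **(3)** -/
theorem three {w : G} (hw : w ∈ U) (hmv : ∃ r ∈ oddGen R, r * w ≠ w * r) {I : Subgroup G} (hI' : I ≤ UR R V)
    (hIR : ∀ r ∈ R, ∀ e ∈ I, r * e * r⁻¹ ∈ I) (hIO : ∀ e ∈ I, ∀ b ∈ o2 R, b * e = e * b) :
    ∃ r ∈ R, r * w * r⁻¹ * w⁻¹ ∉ I := by
  by_contra hcon
  push Not at hcon
  have hIU : I ≤ U := hI'.trans f.UR_U
  have h1 := f.one I hI' hIO hIR
  obtain ⟨r, hr, hrw⟩ := hmv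
  apply hrw
  have h2 : oddGen R ≤ centralizer ({w} : Set G) := by
    rw [MinSimple.VModule.oddGen_def, closure_le]
    rintro s ⟨hs, hso⟩
    have h3 := hcon s hs
    have h4 := h1 s (mem_oddGen hs hso) _ h3
    refine mem_centralizer_singleton_iff.2 (comm_of_odd (i := s * w * s⁻¹ * w⁻¹) hso (f.Usq _ (hIU h3)) h4 ?_)
    rw [f.Uab w hw _ (hIU h3)]
    group
  exact mem_centralizer_singleton_iff.1 (h2 hr)

/-- `C_{O₂(R)}(V)` does not centralise `E₁`. -/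
theorem mv {w x' : G} (hw : w ∈ V) (hx : x' ∈ D) (hmv : ∃ r ∈ oddGen R, r * w ≠ w * r)
    (hc : ∀ t ∈ T, t * w * t⁻¹ * w⁻¹ = 1 ∨ t * w * t⁻¹ * w⁻¹ = x') :
    ∃ e ∈ Mod D R w, ∃ q ∈ o2 R, (∀ v ∈ V, q * v = v * q) ∧ q * e ≠ e * q := by
  by_contra hcon
  push Not at hcon
  have hwU := f.VU hw
  set M := Mod D R w with hM
  have hRM : ∀ r ∈ R, ∀ e ∈ M, r * e * r⁻¹ ∈ M := fun r hr e he => f.Mod_norm hr he
  have hMU : M ≤ U := f.Mod_U hwU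
  have hI : ∀ r ∈ R, ∀ e ∈ M ⊓ centralizer (o2 R : Set G), r * e * r⁻¹ ∈ M ⊓ centralizer (o2 R : Set G) := by
    rintro r hr e ⟨he, hec⟩
    refine ⟨hRM r hr e he, mem_centralizer_iff.2 fun b hb => ?_⟩
    have h2 := mem_centralizer_iff.1 hec _ (f.O_norm hr hb)
    calc b * (r * e * r⁻¹) = r * ((r⁻¹ * b * r⁻¹⁻¹) * e) * r⁻¹ := by group
      _ = r * (e * (r⁻¹ * b * r⁻¹⁻¹)) * r⁻¹ := by rw [h2]
      _ = r * e * r⁻¹ * b := by group
  have h3 := f.three hwU hmv (I := M ⊓ centralizer (o2 R : Set G)) (inf_le_left.trans (f.Mod_UR hw)) hI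
    fun e he b hb => mem_centralizer_iff.1 he.2 b hb
  have hcE := fun (b : G) (hb : b ∈ o2 R) (e : G) (he : e ∈ M) => f.comm_Mod hwU hx hc hb he
  -- `T` acts trivially on `M / C_M(O)`
  have hT : ∀ t ∈ T, ∀ e ∈ M, t * e * t⁻¹ * e⁻¹ ∈ M ⊓ centralizer (o2 R : Set G) := by
    intro t ht e he
    have htR := f.TR ht
    have het := hRM t htR e he
    refine ⟨M.mul_mem het (M.inv_mem he), mem_centralizer_iff.2 fun b hb => ?_⟩
    set b' := t⁻¹ * b * t⁻¹⁻¹ with hb'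
    have hb'O : b' ∈ o2 R := f.O_norm htR hb
    have hbT := f.OT hb
    have hcO : b⁻¹ * b' ∈ o2 R := mul_mem (inv_mem hb) hb'O
    have hcV : ∀ v ∈ V, (b⁻¹ * b') * v * (b⁻¹ * b')⁻¹ = v := by
      intro v hv
      have g1 := f.TV t ht v hv
      have g2 : ∀ s ∈ T, ∀ d ∈ D, s * d * s⁻¹ = d := fun s hs d hd => f.conj_D (f.TR hs) hd
      have g3 := f.TV b hbT v hv
      have g6 : b' * v * b'⁻¹ = b * v * b⁻¹ := by
        have e1 : b' * v * b'⁻¹ = t⁻¹ * (b * (t * v * t⁻¹) * b⁻¹) * t := by rw [hb']; group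
        have e2 : b * (t * v * t⁻¹) * b⁻¹ = (t * v * t⁻¹ * v⁻¹) * (b * v * b⁻¹) := by
          calc b * (t * v * t⁻¹) * b⁻¹ = (b * (t * v * t⁻¹ * v⁻¹) * b⁻¹) * (b * v * b⁻¹) := by group
            _ = _ := by rw [g2 b hbT _ g1]
        have e3 : t⁻¹ * ((t * v * t⁻¹ * v⁻¹) * (b * v * b⁻¹)) * t =
            (t⁻¹ * (t * v * t⁻¹ * v⁻¹) * t⁻¹⁻¹) * (t⁻¹ * (b * v * b⁻¹ * v⁻¹) * t⁻¹⁻¹) * (t⁻¹ * v * t) := by group
        rw [e1, e2, e3, g2 _ (inv_mem ht) _ g1, g2 _ (inv_mem ht) _ g3]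
        have e4 : t⁻¹ * v * t = t⁻¹ * (t * v * t⁻¹ * v⁻¹)⁻¹ * t⁻¹⁻¹ * v := by group
        rw [e4, g2 _ (inv_mem ht) _ (inv_mem g1)]
        have e5 : (t * v * t⁻¹ * v⁻¹) * (b * v * b⁻¹ * v⁻¹) = (b * v * b⁻¹ * v⁻¹) * (t * v * t⁻¹ * v⁻¹) :=
          f.Uab _ (f.DU g1) _ (f.DU g3)
        rw [e5]
        group
      calc (b⁻¹ * b') * v * (b⁻¹ * b')⁻¹ = b⁻¹ * (b' * v * b'⁻¹) * b := by group
        _ = b⁻¹ * (b * v * b⁻¹) * b := by rw [g6]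
        _ = v := by group
    have hcc : ∀ e ∈ M, (b⁻¹ * b') * e * (b⁻¹ * b')⁻¹ = e := fun e he => by
      rw [hcon e he _ hcO fun v hv => mul_inv_eq_iff_eq_mul.1 (hcV v hv), mul_inv_cancel_right]
    have h4 : b' * e * b'⁻¹ = b * e * b⁻¹ := by
      calc b' * e * b'⁻¹ = b * ((b⁻¹ * b') * e * (b⁻¹ * b')⁻¹) * b⁻¹ := by group
        _ = b * e * b⁻¹ := by rw [hcc e he]
    have h5 : b * e * b⁻¹ * e⁻¹ ∈ D := by
      rcases hcE b hb e he with h6 | h6 <;> rw [h6]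
      · exact one_mem _
      · exact hx
    have h6 : b * (t * e * t⁻¹) * b⁻¹ = (b * e * b⁻¹ * e⁻¹) * (t * e * t⁻¹) := by
      calc b * (t * e * t⁻¹) * b⁻¹ = t * (b' * e * b'⁻¹) * t⁻¹ := by rw [hb']; group
        _ = t * (b * e * b⁻¹ * e⁻¹) * t⁻¹ * (t * e * t⁻¹) := by rw [h4]; group
        _ = _ := by rw [f.conj_D htR h5]
    refine mul_inv_eq_iff_eq_mul.1 ?_
    have h7 : b * (t * e * t⁻¹ * e⁻¹) * b⁻¹ = b * (t * e * t⁻¹) * b⁻¹ * (b * e * b⁻¹)⁻¹ := by group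
    rw [h7, h6]
    have h8 : (b * e * b⁻¹ * e⁻¹) * (t * e * t⁻¹) = (t * e * t⁻¹) * (b * e * b⁻¹ * e⁻¹) :=
      f.Uab _ (f.DU h5) _ (hMU het)
    rw [h8]
    have h9 : (b * e * b⁻¹ * e⁻¹) * (b * e * b⁻¹)⁻¹ = e⁻¹ := by
      have h10 : (b * e * b⁻¹) * e⁻¹ = e⁻¹ * (b * e * b⁻¹) :=
        f.Uab _ (hMU (hRM b (f.OR hb) e he)) _ (inv_mem (hMU he))
      rw [h10]; group
    rw [mul_assoc, h9]
  -- so `T ≤ O`
  have hTO : T ≤ o2 R := fun t ht => f.mem_O' hRM hI (mem_Mod _ _ _) (fun t ht => hT t ht _ (mem_Mod _ _ _)) h3 ht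
    (hT t ht)
  have hTe : o2 R = T := le_antisymm f.OT hTO
  exact f.min.not_le (by rw [← hTe]; exact MinSimple.VModule.le_normalizer_o2 R)

/-- the fixed points of `A` on `M / I` -/
theorem exists_fixed {M I : Subgroup G} (hMU : M ≤ U) :
    ∃ F₁ : Subgroup G, ∀ e, e ∈ F₁ ↔ e ∈ M ∧ ∀ b ∈ A, b * e * b⁻¹ * e⁻¹ ∈ I := by
  refine ⟨{ carrier := {e | e ∈ M ∧ ∀ b ∈ A, b * e * b⁻¹ * e⁻¹ ∈ I}
            one_mem' := ⟨one_mem _, fun b _ => by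
              have : b * 1 * b⁻¹ * (1 : G)⁻¹ = 1 := by group
              rw [this]; exact one_mem _⟩
            mul_mem' := ?_
            inv_mem' := ?_ }, fun e => Iff.rfl⟩
  · rintro e e' ⟨he, h1⟩ ⟨he', h2⟩
    refine ⟨mul_mem he he', fun b hb => ?_⟩
    have h3 : b * e' * b⁻¹ * e'⁻¹ ∈ U := mul_mem (f.RU b (f.TR (f.AT hb)) e' (hMU he')) (inv_mem (hMU he'))
    rw [comm_prod (f.Uab e (hMU he) _ h3)]
    exact mul_mem (h1 b hb) (h2 b hb)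
  · rintro e ⟨he, h1⟩
    have hei : e⁻¹ = e := inv_eq_of_mul_eq_one_left (f.Usq e (hMU he))
    rw [hei]
    exact ⟨he, h1⟩

/-- **The core of (A) of #25060.** -/
theorem false : False := by
  classical
  have hUab : ∀ u ∈ U, ∀ v ∈ U, u * v = v * u := f.Uab
  set E₁ := Mod D R w₁ with hE₁
  set E₂ := Mod D R w₂ with hE₂
  have hE1U : E₁ ≤ U := f.Mod_U (f.VU f.w1)
  have hE2U : E₂ ≤ U := f.Mod_U (f.VU f.w2)
  set I := E₁ ⊓ E₂ with hI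
  have hIU : I ≤ U := inf_le_left.trans hE1U
  have hI' : I ≤ UR R V := inf_le_left.trans (f.Mod_UR f.w1)
  have hIR : ∀ r ∈ R, ∀ e ∈ I, r * e * r⁻¹ ∈ I := fun r hr e he => ⟨f.Mod_norm hr he.1, f.Mod_norm hr he.2⟩
  have hDI : D ≤ I := le_inf (D_le_Mod _ _ _) (D_le_Mod _ _ _)
  have cE1 : ∀ b ∈ o2 R, ∀ e ∈ E₁, b * e * b⁻¹ * e⁻¹ = 1 ∨ b * e * b⁻¹ * e⁻¹ = x := fun b hb e he =>
    f.comm_Mod (f.VU f.w1) f.xD f.tw1 hb he
  have cE2 : ∀ b ∈ o2 R, ∀ e ∈ E₂, b * e * b⁻¹ * e⁻¹ = 1 ∨ b * e * b⁻¹ * e⁻¹ = y := fun b hb e he =>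
    f.comm_Mod (f.VU f.w2) f.yD f.tw2 hb he
  have hIO : ∀ e ∈ I, ∀ b ∈ o2 R, b * e = e * b := by
    intro e he b hb
    rw [← comm_iff]
    rcases cE1 b hb e he.1 with h1 | h1
    · exact h1
    · rcases cE2 b hb e he.2 with h2 | h2
      · exact h2
      · exact absurd (h1.symm.trans h2) f.xy
  have hAR : A ≤ R := f.AT.trans f.TR
  obtain ⟨F₁, hF₁⟩ := f.exists_fixed (I := I) hE1U
  obtain ⟨F₂, hF₂⟩ := f.exists_fixed (I := I) hE2U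
  -- no over-offender
  have hAO : ∀ {M : Subgroup G} {w : G}, M = Mod D R w → (∀ t ∈ T, t * w * t⁻¹ * w⁻¹ ∈ I) →
      (∃ r ∈ R, r * w * r⁻¹ * w⁻¹ ∉ I) → ∀ b ∈ A, (∀ e ∈ M, b * e * b⁻¹ * e⁻¹ ∈ I) → b ∈ o2 R := by
    rintro M w rfl hT hR b hb hc
    exact f.mem_O' (fun r hr e he => f.Mod_norm hr he) hIR (mem_Mod _ _ _) hT hR (f.AT hb) hc
  have key : ∀ {w x' : G} {F₀ : Subgroup G}, w ∈ V → x' ∈ D →
      (∀ t ∈ T, t * w * t⁻¹ * w⁻¹ = 1 ∨ t * w * t⁻¹ * w⁻¹ = x') → (∃ r ∈ oddGen R, r * w ≠ w * r) →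
      I ≤ Mod D R w → (∀ e, e ∈ F₀ ↔ e ∈ Mod D R w ∧ ∀ b ∈ A, b * e * b⁻¹ * e⁻¹ ∈ I) →
      (o2 R).relIndex A * Nat.card F₀ ≤ Nat.card (Mod D R w) := by
    intro w x' F₀ hw hx' hc hmv hle hF₀
    have hMU : Mod D R w ≤ U := f.Mod_U (f.VU hw)
    have hT : ∀ t ∈ T, t * w * t⁻¹ * w⁻¹ ∈ I := by
      intro t ht
      apply hDI
      rcases hc t ht with h1 | h1 <;> rw [h1]
      · exact one_mem _
      · exact hx'
    have hR := f.three (f.VU hw) hmv hI' hIR hIO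
    exact noOver f.syl f.min hle (fun v hv w hw => f.Uab v (hMU hv) w (hMU hw)) (fun v hv => f.Usq v (hMU hv))
      hIR (fun r hr e he => f.Mod_norm hr he) (mem_Mod _ _ _) hT hR (fun K hK1 hK2 => Mod_le (hDI.trans hK1) hK2) hAR
      f.Aab f.Asq (fun a ha hc => hAO rfl hT hR a ha hc) hF₀
  have k1 := key f.w1 f.xD f.tw1 f.mv1 inf_le_left hF₁
  have k2 := key f.w2 f.yD f.tw2 f.mv2 inf_le_right hF₂
  -- the product
  set B₁ := A ⊓ o2 R with hB₁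
  set κ := (o2 R).relIndex A with hκd
  have hκ : κ * Nat.card B₁ = Nat.card A := SN.TwoP.relIndex_mul
  set E := V ⊔ (E₁ ⊔ E₂) with hE
  have hEU : E ≤ U := sup_le f.VU (sup_le hE1U hE2U)
  have hmE : ∀ e ∈ E, ∃ v ∈ V, ∃ e₁ ∈ E₁, ∃ e₂ ∈ E₂, e = v * (e₁ * e₂) := by
    intro e he
    obtain ⟨v, hv, w, hw, rfl⟩ := mem_sup_comm
      (fun x hx y hy => f.Uab x (f.VU hx) y (sup_le hE1U hE2U hy)) he
    obtain ⟨e₁, he₁, e₂, he₂, rfl⟩ := mem_sup_comm (fun x hx y hy => f.Uab x (hE1U hx) y (hE2U hy)) hw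
    exact ⟨v, hv, e₁, he₁, e₂, he₂, rfl⟩
  have cprod : ∀ b ∈ R, ∀ e ∈ U, ∀ e' ∈ U,
      b * (e * e') * b⁻¹ * (e * e')⁻¹ = (b * e * b⁻¹ * e⁻¹) * (b * e' * b⁻¹ * e'⁻¹) := by
    intro b hb e he e' he'
    exact comm_prod (f.Uab e he _ (mul_mem (f.RU b hb e' he') (inv_mem he')))
  have cE : ∀ b ∈ B₁, ∀ e ∈ E, b * e * b⁻¹ * e⁻¹ = 1 ∨ b * e * b⁻¹ * e⁻¹ = x ∨ b * e * b⁻¹ * e⁻¹ = y ∨
      b * e * b⁻¹ * e⁻¹ = x * y := by
    intro b hb e he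
    obtain ⟨v, hv, e₁, he₁, e₂, he₂, rfl⟩ := hmE e he
    have hbR := hAR hb.1
    rw [cprod b hbR v (f.VU hv) _ (mul_mem (hE1U he₁) (hE2U he₂)), cprod b hbR e₁ (hE1U he₁) e₂ (hE2U he₂),
      comm_iff.2 (f.AV b hb.1 v hv), one_mul]
    rcases cE1 b hb.2 e₁ he₁ with h4 | h4 <;> rcases cE2 b hb.2 e₂ he₂ with h5 | h5 <;> rw [h4, h5]
    · left; rw [one_mul]
    · right; right; left; rw [one_mul]
    · right; left; rw [mul_one]
    · right; right; right; rfl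
  have hcD : ∀ b ∈ B₁, ∀ e ∈ E, b * e * b⁻¹ * e⁻¹ ∈ D := by
    intro b hb e he
    rcases cE b hb e he with h4 | h4 | h4 | h4 <;> rw [h4]
    · exact one_mem _
    · exact f.xD
    · exact f.yD
    · exact mul_mem f.xD f.yD
  have nE1 : ∀ b ∈ A, ∀ e ∈ E₁, b * e * b⁻¹ ∈ E₁ := fun b hb e he => f.Mod_norm (hAR hb) he
  have nE2 : ∀ b ∈ A, ∀ e ∈ E₂, b * e * b⁻¹ ∈ E₂ := fun b hb e he => f.Mod_norm (hAR hb) he
  have hE1E : E₁ ≤ E := le_sup_left.trans le_sup_right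
  have hE2E : E₂ ≤ E := le_sup_right.trans le_sup_right
  have hVE : V ≤ E := le_sup_left
  -- centralisers lie in `O`
  have hcO : ∀ b ∈ A, (∀ e ∈ E, b * e = e * b) → b ∈ B₁ := by
    intro b hb hbe
    refine ⟨hb, hAO (M := E₁) hE₁ ?_ (f.three (f.VU f.w1) f.mv1 hI' hIR hIO) b hb ?_⟩
    · intro t ht
      apply hDI
      rcases f.tw1 t ht with h1 | h1 <;> rw [h1]
      · exact one_mem _
      · exact f.xD
    · intro e he
      rw [comm_iff.2 (hbe e (hE1E he))]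
      exact one_mem _
  have hxx := f.xx
  have hyy := f.yy
  have hxy := f.xyc
  have hx1 := f.x1
  have hy1 := f.y1
  have hne := f.xy
  have hEaU : cj a E ≤ U := by
    rintro _ ⟨e, he, rfl⟩
    exact f.aU e (hEU he)
  have hcount := count2 (B := A) (B₁ := B₁) (E := E) (U := U) (a := a) hEU
    (fun e he => f.aU e (hEU he)) hUab f.aA inf_le_left hcO
    (fun e b => qf x y (b * e * b⁻¹ * e⁻¹))
    (by
      intro e he e' he' b hb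
      rw [cprod b (hAR hb.1) e (hEU he) e' (hEU he')]
      exact qf_mul hxx hyy hxy hx1 hy1 hne (cE b hb e he) (cE b hb e' he'))
    (by
      intro e he b hb b' hb'
      have e1 : (b * b') * e * (b * b')⁻¹ * e⁻¹ = b * (b' * e * b'⁻¹ * e⁻¹) * b⁻¹ * (b * e * b⁻¹ * e⁻¹) := by group
      rw [e1, f.conj_D (hAR hb.1) (hcD b' hb' e he), add_comm]
      exact qf_mul hxx hyy hxy hx1 hy1 hne (cE b' hb' e he) (cE b hb e he))
    (by
      intro b hb h4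
      have h5 : ∀ e ∈ E₁, b * e = e * b := by
        intro e he
        have h6 := qf_eq_zero.1 (h4 e (hE1E he))
        rw [← comm_iff]
        rcases cE1 b hb.2 e he with h7 | h7
        · exact h7
        · exfalso
          rw [h7] at h6
          rcases h6 with h6 | h6
          · exact hx1 h6
          · exact hy1 (left_eq_mul.1 h6)
      have h6 : ∀ e ∈ E₂, b * e = e * b := by
        intro e he
        have h6 := qf_eq_zero.1 (h4 e (hE2E he))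
        rw [← comm_iff]
        rcases cE2 b hb.2 e he with h7 | h7
        · exact h7
        · exfalso
          rw [h7] at h6
          rcases h6 with h6 | h6
          · exact hy1 h6
          · exact hx1 (right_eq_mul.1 h6)
      intro e he
      obtain ⟨v, hv, e₁, he₁, e₂, he₂, rfl⟩ := hmE e he
      have c1 : Commute b v := f.AV b hb.1 v hv
      have c2 : Commute b e₁ := h5 e₁ he₁
      have c3 : Commute b e₂ := h6 e₂ he₂
      exact (c1.mul_right (c2.mul_right c3)).eq)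
    (by
      intro e he e' he' b hb h4
      rw [qf_eq_zero]
      have hbe := hcD b hb e he
      rcases cE b hb e' he' with h6 | h6 | h6 | h6 <;> rw [h6] at h4
      · left; rw [h4]; group
      · exact absurd (h4 ▸ hbe) f.ax
      · exact absurd (h4 ▸ hbe) f.ay
      · right; rw [h4, f.axy])
    (f.cnt _ (hVE.trans le_sup_left) (sup_le hEU hEaU))
  -- the lower bound
  have hlow := split2 (B := A) (E₁ := E₁) (E₂ := E₂) (V := V) (U := U) (k := κ)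
    hUab f.VU hE1U hE2U
    (fun v hv => mem_centralizer_iff.2 fun b hb => f.AV b hb v hv) nE1 nE2 hF₁ hF₂ k1 k2
  rw [← hE] at hlow
  have hB1p : 0 < Nat.card B₁ := Nat.card_pos
  have hCp : 0 < Nat.card ↥(E ⊓ centralizer (A : Set G)) := Nat.card_pos
  have hA0p : 0 < Nat.card A := Nat.card_pos
  have hκ0 : 0 < κ := by
    rcases Nat.eq_zero_or_pos κ with h4 | h4
    · rw [h4, zero_mul] at hκ
      omega
    · exact h4
  have r1 : Nat.card E ≤ κ * Nat.card ↥(E ⊓ centralizer (A : Set G)) := by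
    have h4 : Nat.card E * Nat.card B₁ ≤ (κ * Nat.card ↥(E ⊓ centralizer (A : Set G))) * Nat.card B₁ := by
      calc Nat.card E * Nat.card B₁ ≤ Nat.card A * Nat.card ↥(E ⊓ centralizer (A : Set G)) := hcount
        _ = (κ * Nat.card B₁) * Nat.card ↥(E ⊓ centralizer (A : Set G)) := by rw [hκ]
        _ = _ := by ring
    exact Nat.le_of_mul_le_mul_right h4 hB1p
  have hκ1 : κ = 1 := by
    have h4 : κ * κ * Nat.card ↥(E ⊓ centralizer (A : Set G)) ≤ κ * Nat.card ↥(E ⊓ centralizer (A : Set G)) :=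
      hlow.trans r1
    have h5 : κ * κ ≤ κ := Nat.le_of_mul_le_mul_right h4 hCp
    nlinarith
  rw [hκ1, one_mul] at r1
  have hEc : E ≤ centralizer (A : Set G) := by
    have h4 : E ⊓ centralizer (A : Set G) = E := Subgroup.eq_of_le_of_card_ge inf_le_left r1
    rw [← h4]
    exact inf_le_right
  -- the end
  obtain ⟨e, he, q, hq, hqV, hqe⟩ := f.mv f.w1 f.xD f.mv1 f.tw1
  have hqx : q * e * q⁻¹ * e⁻¹ = x := (cE1 q hq e he).resolve_left fun h4 => hqe (comm_iff.1 h4)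
  have heE : e ∈ E := hE1E he
  obtain ⟨v, hv, hev⟩ := f.act e (hEU heE) fun b hb => mem_centralizer_iff.1 (hEc heE) b hb
  obtain ⟨hq'T, hq'V⟩ := f.aQ q (f.OT hq) hqV
  obtain ⟨q', hq'⟩ : ∃ q', q' = a * q * a⁻¹ := ⟨_, rfl⟩
  rw [← hq'] at hq'T hq'V
  have h5 : q' * (e * v) * q'⁻¹ * (e * v)⁻¹ = a * x * a⁻¹ := by
    rw [← hqx, ← hev, hq']
    group
  have h6 : q' * e * q'⁻¹ * e⁻¹ = a * x * a⁻¹ := by
    rw [← h5]
    have h7 : q' * v * q'⁻¹ = v := by rw [hq'V v hv, mul_inv_cancel_right]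
    calc q' * e * q'⁻¹ * e⁻¹ = q' * e * q'⁻¹ * v * v⁻¹ * e⁻¹ := by group
      _ = q' * e * q'⁻¹ * (q' * v * q'⁻¹) * v⁻¹ * e⁻¹ := by rw [h7]
      _ = _ := by group
  have hrE : a * x * a⁻¹ ∈ E₁ := by
    rw [← h6]
    exact mul_mem (f.Mod_norm (f.TR hq'T) he) (inv_mem he)
  -- `O₂(R)` centralises `w₂`
  have hw2 : ∀ c ∈ o2 R, c * w₂ = w₂ * c := by
    intro c hc
    obtain ⟨d, hd, hxd⟩ := f.axw
    have hcT := f.OT hc
    have hcR := f.OR hc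
    have hw1U := f.VU f.w1
    have hw2U := f.VU f.w2
    have h8 := cE1 c hc _ hrE
    rw [hxd, cprod c hcR _ (mul_mem hw1U hw2U) d (f.DU hd), cprod c hcR _ hw1U _ hw2U, comm_iff.2 (f.RD c hcR d hd),
      mul_one] at h8
    rw [← comm_iff]
    rcases f.tw2 c hcT with h9 | h9
    · exact h9
    · exfalso
      rw [h9] at h8
      rcases f.tw1 c hcT with h10 | h10 <;> rw [h10] at h8
      · rw [one_mul] at h8
        rcases h8 with h8 | h8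
        · exact hy1 h8
        · exact hne h8.symm
      · rcases h8 with h8 | h8
        · apply hne
          calc x = x * (y * y) := by rw [hyy, mul_one]
            _ = y := by rw [← mul_assoc, h8, one_mul]
        · exact hy1 (mul_eq_left.1 h8)
  -- so does `O²(R)`
  set M := closure {g | ∃ r ∈ R, g = r * w₂ * r⁻¹} with hM
  have hMm : ∀ r ∈ R, r * w₂ * r⁻¹ ∈ M := fun r hr => subset_closure ⟨r, hr, rfl⟩
  have hMU : M ≤ UR R V := by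
    rw [hM, closure_le]
    rintro _ ⟨r, hr, rfl⟩
    exact subset_closure ⟨r, hr, w₂, f.w2, rfl⟩
  have hMO : ∀ m ∈ M, ∀ k ∈ o2 R, k * m = m * k := by
    intro m hm k hk
    have h7 : M ≤ centralizer ({k} : Set G) := by
      rw [hM, closure_le]
      rintro _ ⟨r, hr, rfl⟩
      refine mem_centralizer_singleton_iff.2 ?_
      have h8 := hw2 _ (f.O_norm hr hk)
      calc r * w₂ * r⁻¹ * k = r * (w₂ * (r⁻¹ * k * r⁻¹⁻¹)) * r⁻¹ := by group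
        _ = r * ((r⁻¹ * k * r⁻¹⁻¹) * w₂) * r⁻¹ := by rw [h8]
        _ = k * (r * w₂ * r⁻¹) := by group
    exact (mem_centralizer_singleton_iff.1 (h7 hm)).symm
  have hMR : ∀ r ∈ R, ∀ m ∈ M, r * m * r⁻¹ ∈ M := by
    intro r hr m hm
    have h7 : M ≤ M.comap (MulAut.conj r).toMonoidHom := by
      rw [hM, closure_le, ← hM]
      rintro _ ⟨s, hs, rfl⟩
      change r * (s * w₂ * s⁻¹) * r⁻¹ ∈ M
      have e1 : r * (s * w₂ * s⁻¹) * r⁻¹ = (r * s) * w₂ * (r * s)⁻¹ := by group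
      rw [e1]
      exact hMm _ (R.mul_mem hr hs)
    exact h7 hm
  obtain ⟨r, hr, hrw⟩ := f.mv2
  apply hrw
  refine f.one M hMU hMO hMR r hr w₂ ?_
  have := hMm 1 R.one_mem
  rwa [one_mul, inv_one, mul_one] at this

end Dat

end Cfsg.Agent.Omega.NO3S.TwoJ
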